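import Cfsg.Agent.Lib.DerangeClasses.Socle

/-! Classes of derangements: counting lemmas. -/

namespace Cfsg.Agent.Lib.DerangeClasses.Affine

open MulAction

variable {G : Type*} [Group G] [Finite G] {Ω : Type*} [Finite Ω] [MulAction G Ω]

theorem eq_or_eq_of_card_le_two {Q : G → Prop}
    (hk : Nat.card {c : ConjClasses G // ∃ g : G, ConjClasses.mk g = c ∧ Q g} ≤ 2)
    {x y z : G} (hx : Q x) (hy : Q y) (hz : Q z) : IsConj x y ∨ IsConj x z ∨ IsConj y z := by
  classical
  by_contra h
  push Not at h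
  obtain ⟨h1, h2, h3⟩ := h
  let S := {c : ConjClasses G // ∃ g : G, ConjClasses.mk g = c ∧ Q g}
  let f : Fin 3 → S := ![⟨ConjClasses.mk x, x, rfl, hx⟩, ⟨ConjClasses.mk y, y, rfl, hy⟩,
    ⟨ConjClasses.mk z, z, rfl, hz⟩]
  have hf : Function.Injective f := by
    intro i j hij
    have h' := congrArg Subtype.val hij
    fin_cases i <;> fin_cases j <;> first
      | rfl
      | (exfalso
         simp only [f, Fin.isValue, Fin.zero_eta, Fin.mk_one, Fin.reduceFinMk, Matrix.cons_val_zero,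
           Matrix.cons_val_one, Matrix.cons_val] at h'
         have h'' := ConjClasses.mk_eq_mk_iff_isConj.1 h'
         first
           | exact h1 h'' | exact h2 h'' | exact h3 h''
           | exact h1 h''.symm | exact h2 h''.symm | exact h3 h''.symm)
  have := (Nat.card_le_card_of_injective f hf).trans hk
  rw [Nat.card_fin] at this
  omega

theorem isConj_of_card_eq_one {Q : G → Prop}
    (hk : Nat.card {c : ConjClasses G // ∃ g : G, ConjClasses.mk g = c ∧ Q g} = 1)
    {x y : G} (hx : Q x) (hy : Q y) : IsConj x y := by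
  obtain ⟨h1, -⟩ := Nat.card_eq_one_iff_unique.1 hk
  exact ConjClasses.mk_eq_mk_iff_isConj.1 (congrArg Subtype.val (h1.elim
    (⟨ConjClasses.mk x, x, rfl, hx⟩ : {c : ConjClasses G // ∃ g : G, ConjClasses.mk g = c ∧ Q g})
    ⟨ConjClasses.mk y, y, rfl, hy⟩))

theorem card_conjugatesOf_mul (x : G) :
    Nat.card {y : G | IsConj x y} * Nat.card (Subgroup.centralizer ({x} : Set G)) = Nat.card G := by
  have h := Subgroup.index_mul_card (stabilizer (ConjAct G) x)
  rw [index_stabilizer] at h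
  have e1 : (orbit (ConjAct G) x) = {y : G | IsConj x y} := by
    ext y
    rw [ConjAct.mem_orbit_conjAct, Set.mem_ofPred_eq]
    exact ⟨IsConj.symm, IsConj.symm⟩
  have e2 : Nat.card (stabilizer (ConjAct G) x) = Nat.card (Subgroup.centralizer ({x} : Set G)) := by
    rw [ConjAct.stabilizer_eq_centralizer]; rfl
  rw [e1, e2, ← Nat.card_coe_set_eq] at h
  exact h

/-- If every non-identity element fixes at most one point, the elements outside a regular normal
subgroup all fix a point. -/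
theorem mem_of_derangement (N : Subgroup G) [hNn : N.Normal] [IsPretransitive N Ω] (α : Ω)
    (hfix : ∀ g : G, g ≠ 1 → ∀ a b : Ω, g • a = a → g • b = b → a = b)
    (hreg : ∀ ω : Ω, stabilizer N ω = ⊥)
    {x : G} (hx : ∀ ω : Ω, x • ω ≠ ω) : x ∈ N := by
  obtain ⟨n, hn, h, hh, rfl⟩ := Lib.Perm.Basic.exists_eq_mul_stabilizer N α x
  by_cases h1 : h = 1
  · subst h1; rw [mul_one]; exact hn
  exfalso
  have hhα : h • α = α := hh
  have hbij := Lib.Perm.Basic.smul_bijective_of_regular (H := N) α (hreg α)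
  let φ : N → N := fun m => m * (⟨h * m * h⁻¹, hNn.conj_mem m m.2 h⟩ : N)⁻¹
  have hφ : Function.Injective φ := by
    intro a b hab
    have hab' : (a : G) * (h * a * h⁻¹)⁻¹ = b * (h * b * h⁻¹)⁻¹ := congrArg Subtype.val hab
    have hc : h * ((b : G)⁻¹ * a) = ((b : G)⁻¹ * a) * h := by
      calc h * ((b : G)⁻¹ * a) = (h * b * h⁻¹)⁻¹ * (h * a * h⁻¹) * h := by group
        _ = (b : G)⁻¹ * ((b : G) * (h * b * h⁻¹)⁻¹) * (h * a * h⁻¹) * h := by group
        _ = (b : G)⁻¹ * ((a : G) * (h * a * h⁻¹)⁻¹) * (h * a * h⁻¹) * h := by rw [hab']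
        _ = _ := by group
    have h2 : h • (((b : G)⁻¹ * a) • α) = ((b : G)⁻¹ * a) • α := by
      rw [← mul_smul, hc, mul_smul, hhα]
    have h3 : ((b⁻¹ * a : N) : G) • α = α := hfix h h1 _ _ h2 hhα
    have h4 : b⁻¹ * a ∈ stabilizer N α := h3
    rw [hreg α, Subgroup.mem_bot, inv_mul_eq_one] at h4
    exact h4.symm
  obtain ⟨m, hm⟩ := (Finite.injective_iff_surjective.1 hφ) ⟨n, hn⟩
  have hm' : (m : G) * (h * m * h⁻¹)⁻¹ = n := congrArg Subtype.val hm
  refine hx ((m : G) • α) ?_
  rw [← hm', ← mul_smul, show (m : G) * (h * m * h⁻¹)⁻¹ * h * m = m * h by group, mul_smul, hhα]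

/-- The number of derangements when every non-identity element fixes at most one point. -/
theorem card_derangements [IsPretransitive G Ω] [FaithfulSMul G Ω] [Nonempty Ω]
    (hfix : ∀ g : G, g ≠ 1 → ∀ a b : Ω, g • a = a → g • b = b → a = b) :
    Nat.card {x : G | ∀ ω : Ω, x • ω ≠ ω} + 1 = Nat.card Ω := by
  classical
  have := Fintype.ofFinite G
  have := Fintype.ofFinite Ω
  have hB := sum_card_fixedBy_eq_card_orbits_mul_card_group G Ω
  have h1 : Fintype.card (Quotient (orbitRel G Ω)) = 1 := by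
    haveI : Subsingleton (Quotient (orbitRel G Ω)) :=
      (pretransitive_iff_subsingleton_quotient G Ω).1 inferInstance
    haveI : Nonempty (Quotient (orbitRel G Ω)) := (inferInstance : Nonempty Ω).map Quotient.mk''
    exact le_antisymm (Fintype.card_le_one_iff_subsingleton.2 inferInstance) Fintype.card_pos
  rw [h1, one_mul, ← Finset.sum_erase_add _ _ (Finset.mem_univ (1 : G))] at hB
  have hone : Fintype.card (fixedBy Ω (1 : G)) = Fintype.card Ω := by
    rw [← Set.toFinset_card, ← Finset.card_univ]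
    congr 1
    ext x; simp
  have hval : ∀ g ∈ (Finset.univ : Finset G).erase 1, Fintype.card (fixedBy Ω g) =
      if (∀ ω : Ω, g • ω ≠ ω) then 0 else 1 := by
    intro g hg
    split_ifs with h
    · exact Fintype.card_eq_zero_iff.2 ⟨fun x => h x.1 x.2⟩
    · push Not at h
      obtain ⟨a, ha⟩ := h
      exact Fintype.card_eq_one_iff.2 ⟨⟨a, ha⟩, fun y =>
        Subtype.ext (hfix g (Finset.ne_of_mem_erase hg) _ _ y.2 ha)⟩
  rw [Finset.sum_congr rfl hval, hone, Finset.sum_ite, Finset.sum_const_zero, zero_add,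
    Finset.sum_const, smul_eq_mul, mul_one] at hB
  have hsplit := Finset.card_filter_add_card_filter_not (s := (Finset.univ : Finset G).erase 1)
    (fun g => ∀ ω : Ω, g • ω ≠ ω)
  rw [Finset.card_erase_of_mem (Finset.mem_univ _), Finset.card_univ] at hsplit
  have hset : Nat.card {x : G | ∀ ω : Ω, x • ω ≠ ω} =
      (((Finset.univ : Finset G).erase 1).filter fun g => ∀ ω : Ω, g • ω ≠ ω).card := by
    rw [Nat.card_coe_set_eq, ← Set.ncard_coe_finset]
    congr 1
    ext g
    simp only [Finset.coe_filter, Finset.mem_erase, Finset.mem_univ, and_true, Set.mem_ofPred_eq]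
    refine ⟨fun h => ⟨fun e => ?_, h⟩, fun h => h.2⟩
    subst e
    exact h (Classical.arbitrary Ω) (one_smul _ _)
  rw [hset, Nat.card_eq_fintype_card (α := Ω)]
  have := Fintype.card_pos (α := G)
  omega

theorem two_pretransitive_of_conj (N : Subgroup G) [hNn : N.Normal] [IsPretransitive N Ω]
    (hc : IsMulCommutative N)
    (hconj : ∀ a ∈ N, a ≠ 1 → ∀ b ∈ N, b ≠ 1 → IsConj a b) :
    IsMultiplyPretransitive G Ω 2 := by
  rw [is_two_pretransitive_iff]
  intro a b c d hab hcd
  obtain ⟨⟨n, hn⟩, hnb'⟩ := exists_smul_eq N a b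
  obtain ⟨⟨m, hm⟩, hmd'⟩ := exists_smul_eq N c d
  have hnb : n • a = b := hnb'
  have hmd : m • c = d := hmd'
  have hn1 : n ≠ 1 := fun e => hab (by rw [← hnb, e, one_smul])
  have hm1 : m ≠ 1 := fun e => hcd (by rw [← hmd, e, one_smul])
  obtain ⟨g, hg⟩ := isConj_iff.1 (hconj n hn hn1 m hm hm1)
  obtain ⟨⟨k, hk⟩, hkc'⟩ := exists_smul_eq N (g • a) c
  have hkc : k • g • a = c := hkc'
  refine ⟨k * g, by rw [mul_smul, hkc], ?_⟩
  have hkm : k * m = m * k := congrArg Subtype.val (mul_comm' (⟨k, hk⟩ : N) ⟨m, hm⟩)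
  rw [← hnb, ← mul_smul, show k * g * n = k * (g * n * g⁻¹) * g by group, hg, hkm, mul_smul,
    mul_smul, hkc, hmd]

end Cfsg.Agent.Lib.DerangeClasses.Affine
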