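import Cfsg.Agent.Lib.RecogThree.Derangements
import Cfsg.Agent.Lib.Perm.Basic
import Cfsg.Agent.Lib.Cores.MinNormal
import Cfsg.Agent.Lib.Induced.Burnside

/-! A primitive group with at most two classes of derangements is almost simple or affine. -/

namespace Cfsg.Agent.Lib.DerangeClasses.Socle

open MulAction

/-- A finite group with at most two element orders besides 1 is solvable. -/
theorem isSolvable_of_two_orders {K : Type*} [Group K] [Finite K]
    (h : ∀ a b c : K, a ≠ 1 → b ≠ 1 → c ≠ 1 →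
      orderOf a = orderOf b ∨ orderOf a = orderOf c ∨ orderOf b = orderOf c) :
    Group.IsSolvable K := by
  classical
  have hn0 : Nat.card K ≠ 0 := Nat.card_pos.ne'
  have hel : ∀ r ∈ (Nat.card K).primeFactors, ∃ x : K, x ≠ 1 ∧ orderOf x = r := by
    intro r hr
    haveI : Fact r.Prime := ⟨Nat.prime_of_mem_primeFactors hr⟩
    obtain ⟨x, hx⟩ := exists_prime_orderOf_dvd_card' r (Nat.dvd_of_mem_primeFactors hr)
    exact ⟨x, fun e => (Fact.out : r.Prime).ne_one (by rw [← hx, e, orderOf_one]), hx⟩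
  have hcard : (Nat.card K).primeFactors.card ≤ 2 := by
    by_contra hlt
    obtain ⟨a, b, c, ha, hb, hc, hab, hac, hbc⟩ := Finset.two_lt_card_iff.1 (not_le.1 hlt)
    obtain ⟨x, hx1, hx⟩ := hel a ha
    obtain ⟨y, hy1, hy⟩ := hel b hb
    obtain ⟨z, hz1, hz⟩ := hel c hc
    rcases h x y z hx1 hy1 hz1 with e | e | e <;> omega
  obtain ⟨p, q, hp, hq, hsub⟩ : ∃ p q : ℕ, p.Prime ∧ q.Prime ∧ (Nat.card K).primeFactors ⊆ {p, q} := by
    have h3 : ∀ r ∈ (Nat.card K).primeFactors, r.Prime := fun r hr => Nat.prime_of_mem_primeFactors hr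
    rcases Nat.lt_or_ge (Nat.card K).primeFactors.card 1 with h0 | h1
    · refine ⟨2, 3, Nat.prime_two, Nat.prime_three, ?_⟩
      rw [Finset.card_eq_zero.1 (by omega : (Nat.card K).primeFactors.card = 0)]
      exact Finset.empty_subset _
    rcases h1.eq_or_lt with h1 | h2
    · obtain ⟨a, ha⟩ := Finset.card_eq_one.1 h1.symm
      refine ⟨a, a, h3 a (by simp [ha]), h3 a (by simp [ha]), ?_⟩
      rw [ha]; simp
    · obtain ⟨a, b, -, hab⟩ := Finset.card_eq_two.1 (by omega : (Nat.card K).primeFactors.card = 2)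
      exact ⟨a, b, h3 a (by simp [hab]), h3 b (by simp [hab]), hab.le⟩
  have hn := Nat.prod_factorization_pow_eq_self hn0
  by_cases hpq : p = q
  · refine Lib.Induced.Burnside.isSolvable_of_card_eq p q ((Nat.card K).factorization p) 0 hp hq ?_
    rw [pow_zero, mul_one]
    conv_lhs => rw [← hn]
    rw [Finsupp.prod_of_support_subset _ (s := {p}) (by
      rw [Nat.support_factorization]; subst hpq; simpa using hsub) _ (fun _ _ => pow_zero _)]
    simp
  · refine Lib.Induced.Burnside.isSolvable_of_card_eq p q ((Nat.card K).factorization p)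
      ((Nat.card K).factorization q) hp hq ?_
    conv_lhs => rw [← hn]
    rw [Finsupp.prod_of_support_subset _ (s := {p, q}) (by rw [Nat.support_factorization]; exact hsub)
      _ (fun _ _ => pow_zero _), Finset.prod_pair hpq]

theorem orderOf_eq_of_isConj {K : Type*} [Group K] {x y : K} (h : IsConj x y) :
    orderOf x = orderOf y := by
  obtain ⟨g, rfl⟩ := isConj_iff.1 h
  exact ((MulAut.conj g).orderOf_eq x).symm

/-- A non-abelian minimal invariant subgroup is not solvable. -/
theorem not_solvable {G : Type*} [Group G] {N T : Subgroup G} (hT : T ≠ ⊥)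
    (hTn : N ≤ Subgroup.normalizer (T : Set G))
    (hTmin : ∀ M : Subgroup G, M ≤ T → N ≤ Subgroup.normalizer (M : Set G) → M = ⊥ ∨ M = T)
    (hTnab : ¬ ∀ a ∈ T, ∀ b ∈ T, a * b = b * a) (hsol : Group.IsSolvable T) : False := by
  haveI : Nontrivial T := (Subgroup.nontrivial_iff_ne_bot T).2 hT
  have hle : ⁅T, T⁆ ≤ T := Subgroup.commutator_le.2 fun a ha b hb =>
    T.mul_mem (T.mul_mem (T.mul_mem ha hb) (T.inv_mem ha)) (T.inv_mem hb)
  have hnorm : N ≤ Subgroup.normalizer (↑⁅T, T⁆ : Set G) := by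
    rw [Subgroup.le_normalizer_iff]
    intro n hn x hx
    have : (⁅T, T⁆).map (MulAut.conj n).toMonoidHom ≤ ⁅T, T⁆ := by
      rw [Subgroup.map_commutator]
      refine Subgroup.commutator_mono ?_ ?_ <;>
        · rintro _ ⟨y, hy, rfl⟩
          exact (Subgroup.mem_normalizer_iff.1 (hTn hn) y).1 hy
    exact this ⟨x, hx, rfl⟩
  rcases hTmin ⁅T, T⁆ hle hnorm with h | h
  · exact hTnab fun a ha b hb =>
      Subgroup.mem_centralizer_iff.1 (Subgroup.commutator_eq_bot_iff_le_centralizer.1 h hb) a ha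
  · have hlt : ⁅(⊤ : Subgroup T), ⊤⁆ < ⊤ := Group.IsSolvable.commutator_lt_top_of_nontrivial T
    apply hlt.ne
    apply Subgroup.map_injective T.subtype_injective
    rw [Subgroup.map_commutator, ← MonoidHom.range_eq_map, Subgroup.range_subtype, h]

variable {G : Type*} [Group G] [Finite G] {Ω : Type*} [Finite Ω] [MulAction G Ω] [FaithfulSMul G Ω]

/-- The situation of a non-regular non-simple minimal normal subgroup is impossible. -/
theorem false_of_factors [IsPreprimitive G Ω] (α : Ω)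
    (h2 : ∀ x y z : G, (∀ ω : Ω, x • ω ≠ ω) → (∀ ω : Ω, y • ω ≠ ω) → (∀ ω : Ω, z • ω ≠ ω) →
      IsConj x y ∨ IsConj x z ∨ IsConj y z)
    {N : Subgroup G} [hNn : N.Normal] (hN : N ≠ ⊥)
    (hmin : ∀ M : Subgroup G, M.Normal → M ≤ N → M = ⊥ ∨ M = N) (hnab : ¬ IsMulCommutative N)
    {T : Subgroup G} (hTN : T ≤ N) (hTn : N ≤ Subgroup.normalizer (T : Set G)) (hT : T ≠ ⊥)
    (hTne : T ≠ N)
    (hTmin : ∀ M : Subgroup G, M ≤ T → N ≤ Subgroup.normalizer (M : Set G) → M = ⊥ ∨ M = T) :
    False := by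
  classical
  haveI hNtr := Lib.Perm.Basic.isPretransitive_of_normal_ne_bot (α := Ω) N hN
  let cj : G → Subgroup G := fun g => T.map (MulAut.conj g).toMonoidHom
  have hmem : ∀ g x, x ∈ cj g ↔ g⁻¹ * x * g ∈ T := by
    intro g x
    rw [Subgroup.mem_map]
    constructor
    · rintro ⟨y, hy, rfl⟩
      simpa [MulAut.conj_apply, mul_assoc] using hy
    · intro h; exact ⟨_, h, by simp [MulAut.conj_apply, mul_assoc]⟩
  have hcjN : ∀ g, cj g ≤ N := by
    intro g x hx
    have := hNn.conj_mem _ (hTN ((hmem g x).1 hx)) g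
    simpa [mul_assoc] using this
  have hcjn : ∀ g, N ≤ Subgroup.normalizer (cj g : Set G) := by
    intro g
    rw [Subgroup.le_normalizer_iff]
    intro n hn x hx
    rw [hmem] at hx ⊢
    have hn' : g⁻¹ * n * g ∈ N := by simpa using hNn.conj_mem n hn g⁻¹
    have := (Subgroup.mem_normalizer_iff.1 (hTn hn') _).1 hx
    simpa [mul_assoc] using this
  have hcj1 : cj 1 = T := by ext x; rw [hmem]; simp
  -- distinct conjugates meet trivially and commute
  have hdisj : ∀ g, cj g ≠ T → cj g ⊓ T = ⊥ := by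
    intro g hne
    rcases hTmin (cj g ⊓ T) inf_le_right ((le_inf (hcjn g) hTn).trans (by
      rw [Subgroup.le_normalizer_iff]
      intro n hn x hx
      exact ⟨(Subgroup.mem_normalizer_iff.1 hn.1 _).1 hx.1, (Subgroup.mem_normalizer_iff.1 hn.2 _).1 hx.2⟩))
      with h | h
    · exact h
    · exfalso; apply hne
      refine (Subgroup.eq_of_le_of_card_ge (inf_eq_right.1 h) ?_).symm
      exact le_of_eq (Subgroup.card_map_of_injective (MulAut.conj g).injective)
  have hcomm : ∀ g, cj g ≠ T → ∀ x ∈ cj g, ∀ t ∈ T, x * t = t * x := by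
    intro g hne x hx t ht
    have h1 : x * t * x⁻¹ * t⁻¹ ∈ cj g ⊓ T := by
      refine ⟨?_, T.mul_mem ((Subgroup.mem_normalizer_iff.1 (hTn (hcjN g hx)) t).1 ht) (T.inv_mem ht)⟩
      rw [show x * t * x⁻¹ * t⁻¹ = x * (t * x⁻¹ * t⁻¹) by group]
      exact (cj g).mul_mem hx ((Subgroup.mem_normalizer_iff.1 (hcjn g (hTN ht)) _).1 ((cj g).inv_mem hx))
    rw [hdisj g hne, Subgroup.mem_bot] at h1
    exact mul_inv_eq_iff_eq_mul.1 (mul_inv_eq_one.1 h1)
  have htop : ∀ (S : Subgroup G), (∀ g, cj g ≤ S) → N ≤ S := by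
    intro S hS
    let S0 := ⨆ g, cj g
    have hS0 : S0.Normal := by
      constructor
      intro x hx h
      induction hx using Subgroup.iSup_induction' with
      | hp g x hx =>
        refine Subgroup.mem_iSup_of_mem (h * g) ?_
        rw [hmem] at hx ⊢
        simpa [mul_assoc] using hx
      | h1 => simp [S0.one_mem]
      | hmul x y _ _ hx hy =>
        have : h * (x * y) * h⁻¹ = (h * x * h⁻¹) * (h * y * h⁻¹) := by group
        rw [this]; exact S0.mul_mem hx hy
    rcases hmin S0 hS0 (iSup_le hcjN) with h | h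
    · exact absurd (le_bot_iff.1 ((hcj1.symm.le.trans (le_iSup cj 1)).trans h.le)) hT
    · exact h.symm.le.trans (iSup_le hS)
  -- a second conjugate exists
  obtain ⟨g₁, hg₁⟩ : ∃ g, cj g ≠ T := by
    by_contra h
    push Not at h
    have hTnorm : T.Normal := ⟨fun x hx g => by
      have h3 : g * x * g⁻¹ ∈ cj g := by rw [hmem]; simpa [mul_assoc] using hx
      rwa [h g] at h3⟩
    exact hTne ((hmin T hTnorm hTN).resolve_left hT)
  -- `T` is non-abelian
  have hTnab : ¬ ∀ a ∈ T, ∀ b ∈ T, a * b = b * a := by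
    intro hab
    refine hnab ⟨⟨fun a b => Subtype.ext ?_⟩⟩
    have hcjab : ∀ g, ∀ a ∈ cj g, ∀ b ∈ T, a * b = b * a := by
      intro g a ha b hb
      by_cases hgT : cj g = T
      · exact hab a (hgT ▸ ha) b hb
      · exact hcomm g hgT a ha b hb
    have hall : ∀ g g', ∀ a ∈ cj g, ∀ b ∈ cj g', a * b = b * a := by
      intro g g' a ha b hb
      have ha' : g'⁻¹ * a * g' ∈ cj (g'⁻¹ * g) := by
        rw [hmem] at ha ⊢; simpa [mul_assoc] using ha
      have h := congrArg (fun z => g' * z * g'⁻¹) (hcjab _ _ ha' _ ((hmem g' b).1 hb))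
      simpa [mul_assoc] using h
    have h1 : ∀ g, ∀ a ∈ cj g, ∀ n ∈ N, a * n = n * a := by
      intro g a ha n hn
      have hle : N ≤ Subgroup.centralizer {a} :=
        htop _ fun g' b hb => Subgroup.mem_centralizer_iff.2 fun x hx => by
          rw [Set.mem_singleton_iff] at hx; subst hx; exact hall g g' _ ha b hb
      exact (Subgroup.mem_centralizer_iff.1 (hle hn) a rfl)
    have h2 : N ≤ Subgroup.centralizer (N : Set G) :=
      htop _ fun g x hx => Subgroup.mem_centralizer_iff.2 fun n hn => (h1 g x hx n hn).symm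
    exact (Subgroup.mem_centralizer_iff.1 (h2 a.2) b b.2).symm
  -- the product of the other conjugates
  let R : Subgroup G := ⨆ (g : G) (_ : cj g ≠ T), cj g
  have hRle : ∀ g, cj g ≠ T → cj g ≤ R := fun g hg => le_iSup₂ (f := fun g (_ : cj g ≠ T) => cj g) g hg
  have hRN : R ≤ N := iSup₂_le fun g _ => hcjN g
  have hRC : ∀ r ∈ R, ∀ t ∈ T, r * t = t * r := by
    intro r hr t ht
    have : R ≤ Subgroup.centralizer (T : Set G) :=
      iSup₂_le fun g hg x hx => Subgroup.mem_centralizer_iff.2 fun t ht => (hcomm g hg x hx t ht).symm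
    exact (Subgroup.mem_centralizer_iff.1 (this hr) t ht).symm
  have hRn : N ≤ Subgroup.normalizer (R : Set G) := by
    rw [Subgroup.le_normalizer_iff]
    intro n hn r hr
    have : R ≤ R.comap (MulAut.conj n).toMonoidHom := iSup₂_le fun g hg x hx =>
      hRle g hg ((Subgroup.mem_normalizer_iff.1 (hcjn g hn) x).1 hx)
    exact this hr
  have hTR : ∀ x, x ∈ T → x ∈ R → x = 1 := by
    intro x hxT hxR
    have h := hTmin (T ⊓ R) inf_le_left (by
      rw [Subgroup.le_normalizer_iff]
      intro n hn y hy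
      exact ⟨(Subgroup.mem_normalizer_iff.1 (hTn hn) y).1 hy.1, (Subgroup.mem_normalizer_iff.1 (hRn hn) y).1 hy.2⟩)
    rcases h with h | h
    · exact (Subgroup.eq_bot_iff_forall _).1 h x ⟨hxT, hxR⟩
    · exact absurd (fun a ha b hb => hRC a ((h.symm.le ha).2) b hb) hTnab
  have hdecomp : ∀ n ∈ N, ∃ t ∈ T, ∃ r ∈ R, n = t * r := by
    intro n hn
    have hle : N ≤ T ⊔ R := htop _ fun g => by
      by_cases hgT : cj g = T
      · exact hgT.le.trans le_sup_left
      · exact (hRle g hgT).trans le_sup_right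
    have h2 := hle hn
    rw [← SetLike.mem_coe, Subgroup.coe_mul_of_right_le_normalizer_left T R (hRN.trans hTn)] at h2
    obtain ⟨t, ht, r, hr, rfl⟩ := h2
    exact ⟨t, ht, r, hr, rfl⟩
  -- the projection of the point stabiliser
  let P : Subgroup T :=
    { carrier := {t | ∃ r ∈ R, ((t : G) * r) • α = α}
      one_mem' := ⟨1, R.one_mem, by simp⟩
      mul_mem' := by
        rintro a b ⟨r, hr, hra⟩ ⟨s, hs, hsb⟩
        refine ⟨r * s, R.mul_mem hr hs, ?_⟩
        have : ((a * b : T) : G) * (r * s) = ((a : G) * r) * ((b : G) * s) := by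
          rw [Subgroup.coe_mul, mul_assoc, ← mul_assoc (b : G), ← hRC r hr b b.2]
          simp only [mul_assoc]
        rw [this, mul_smul, hsb, hra]
      inv_mem' := by
        rintro a ⟨r, hr, hra⟩
        refine ⟨r⁻¹, R.inv_mem hr, ?_⟩
        have : ((a⁻¹ : T) : G) * r⁻¹ = ((a : G) * r)⁻¹ := by
          rw [Subgroup.coe_inv, ← hRC r hr a a.2, mul_inv_rev]
        rw [this, inv_smul_eq_iff, hra] }
  by_cases hP : P = ⊤
  · -- all non-identity elements of `T` are derangements
    have hD : ∀ x ∈ T, x • α = α → x = 1 := by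
      intro x hxT hxα
      have hnorm : N ≤ Subgroup.normalizer (↑(T ⊓ stabilizer G α) : Set G) := by
        rw [Subgroup.le_normalizer_iff]
        intro n hn y hy
        refine ⟨(Subgroup.mem_normalizer_iff.1 (hTn hn) y).1 hy.1, ?_⟩
        obtain ⟨t, ht, r, hr, rfl⟩ := hdecomp n hn
        obtain ⟨r', hr', hfix⟩ : ⟨t, ht⟩ ∈ P := hP ▸ Subgroup.mem_top _
        have he : t * r * y * (t * r)⁻¹ = (t * r') * y * (t * r')⁻¹ := by
          rw [mul_assoc t r, hRC r hr y hy.1, mul_assoc t r', hRC r' hr' y hy.1]; group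
        show (t * r * y * (t * r)⁻¹) • α = α
        rw [he, mul_smul, mul_smul,
          show (t * r')⁻¹ • α = α from inv_smul_eq_iff.2 hfix.symm, mem_stabilizer_iff.1 hy.2, hfix]
      rcases hTmin (T ⊓ stabilizer G α) inf_le_left hnorm with h | h
      · exact (Subgroup.eq_bot_iff_forall _).1 h x ⟨hxT, hxα⟩
      · have hle : T ≤ stabilizer G α := inf_eq_left.1 h
        refine eq_of_smul_eq_smul (α := Ω) fun b => ?_
        obtain ⟨⟨n, hn⟩, rfl⟩ := exists_smul_eq N α b
        have hx' : n⁻¹ * x * n ∈ T := by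
          have := (Subgroup.mem_normalizer_iff.1 (hTn (N.inv_mem hn)) x).1 hxT
          simpa using this
        have := mem_stabilizer_iff.1 (hle hx')
        rw [mul_smul, mul_smul, inv_smul_eq_iff] at this
        rw [one_smul]; exact this
    have hder : ∀ x : T, x ≠ 1 → ∀ ω : Ω, (x : G) • ω ≠ ω := by
      intro x hx ω hω
      obtain ⟨⟨n, hn⟩, hnα⟩ := exists_smul_eq N α ω
      have hnα' : n • α = ω := hnα
      have hx' : n⁻¹ * (x : G) * n ∈ T := by
        have := (Subgroup.mem_normalizer_iff.1 (hTn (N.inv_mem hn)) (x : G)).1 x.2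
        simpa using this
      have h1 := hD _ hx' (by rw [mul_smul, mul_smul, hnα', hω, ← hnα', inv_smul_smul])
      refine hx (Subtype.ext ?_)
      have : (x : G) = n * (n⁻¹ * (x : G) * n) * n⁻¹ := by group
      rw [this, h1, mul_one, mul_inv_cancel]
      rfl
    have hsol : Group.IsSolvable T := isSolvable_of_two_orders fun a b c ha hb hc => by
      rw [← Subgroup.orderOf_coe a, ← Subgroup.orderOf_coe b, ← Subgroup.orderOf_coe c]
      rcases h2 a b c (hder a ha) (hder b hb) (hder c hc) with h | h | h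
      · exact Or.inl (orderOf_eq_of_isConj h)
      · exact Or.inr (Or.inl (orderOf_eq_of_isConj h))
      · exact Or.inr (Or.inr (orderOf_eq_of_isConj h))
    exact not_solvable hT hTn hTmin hTnab hsol
  · -- an element avoiding all conjugates of the projection
    haveI : IsPretransitive T (T ⧸ P) := inferInstance
    obtain ⟨t, ht⟩ := RecogThree.Derangements.exists_derangement (G := T) (Y := T ⧸ P) (by
      have h1 : P.index ≠ 1 := fun h => hP (Subgroup.index_eq_one.1 h)
      have h0 : P.index ≠ 0 := Subgroup.index_ne_zero_of_finite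
      rw [← Subgroup.index_eq_card]; omega)
    have hder : ∀ u ∈ R, ∀ ω : Ω, ((t : G) * u) • ω ≠ ω := by
      intro u hu ω hω
      obtain ⟨⟨n, hn⟩, hnα⟩ := exists_smul_eq N α ω
      obtain ⟨t₀, ht₀, r₀, hr₀, rfl⟩ := hdecomp n hn
      refine ht (QuotientGroup.mk (⟨t₀, ht₀⟩ : T)) ?_
      rw [MulAction.Quotient.smul_mk, QuotientGroup.eq]
      show (t * ⟨t₀, ht₀⟩)⁻¹ * ⟨t₀, ht₀⟩ ∈ P
      rw [show (t * ⟨t₀, ht₀⟩)⁻¹ * (⟨t₀, ht₀⟩ : T) = ((⟨t₀, ht₀⟩ : T)⁻¹ * t * ⟨t₀, ht₀⟩)⁻¹ by group]
      refine P.inv_mem ⟨r₀⁻¹ * u * r₀, R.mul_mem (R.mul_mem (R.inv_mem hr₀) hu) hr₀, ?_⟩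
      have key : t₀⁻¹ * (t : G) * t₀ * (r₀⁻¹ * u * r₀) = (t₀ * r₀)⁻¹ * ((t : G) * u) * (t₀ * r₀) := by
        have hA : t₀⁻¹ * (t : G) * t₀ ∈ T := T.mul_mem (T.mul_mem (T.inv_mem ht₀) t.2) ht₀
        have e1 : (t₀ * r₀)⁻¹ * ((t : G) * u) * (t₀ * r₀) = r₀⁻¹ * (t₀⁻¹ * (t : G)) * (u * t₀) * r₀ := by
          group
        rw [e1, hRC u hu t₀ ht₀,
          show r₀⁻¹ * (t₀⁻¹ * (t : G)) * (t₀ * u) * r₀ = r₀⁻¹ * (t₀⁻¹ * (t : G) * t₀) * (u * r₀) by group,
          hRC _ (R.inv_mem hr₀) _ hA]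
        group
      show (t₀⁻¹ * (t : G) * t₀ * (r₀⁻¹ * u * r₀)) • α = α
      have hnα' : (t₀ * r₀) • α = ω := hnα
      rw [key, mul_smul, mul_smul, hnα', hω, ← hnα', inv_smul_smul]
    have ht1 : (t : G) ≠ 1 := fun e => by
      have : t = 1 := Subtype.ext e
      exact ht (QuotientGroup.mk 1) (by rw [this, one_smul])
    have hu' : ∀ u ∈ cj g₁, u ∈ R := fun u hu => hRle g₁ hg₁ hu
    -- `t * u` lies in no conjugate of `T`
    have hF1 : ∀ u ∈ cj g₁, u ≠ 1 → ∀ g, (t : G) * u ∉ cj g := by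
      intro u hu hu1 g hmemg
      by_cases hgT : cj g = T
      · rw [hgT] at hmemg
        refine hu1 (hTR u ?_ (hu' u hu))
        have := T.mul_mem (T.inv_mem t.2) hmemg
        rwa [inv_mul_cancel_left] at this
      · refine ht1 (hTR _ t.2 ?_)
        have := R.mul_mem (hRle g hgT hmemg) (R.inv_mem (hu' u hu))
        rwa [mul_inv_cancel_right] at this
    have hne : ∀ u ∈ cj g₁, u ≠ 1 → ¬ IsConj (t : G) ((t : G) * u) := by
      intro u hu hu1 hc
      obtain ⟨g, hg⟩ := isConj_iff.1 hc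
      refine hF1 u hu hu1 g ?_
      rw [← hg, hmem]
      simp [mul_assoc, t.2]
    have hord : ∀ u ∈ cj g₁, u ≠ 1 → ∀ v ∈ cj g₁, v ≠ 1 → orderOf u = orderOf v := by
      intro u hu hu1 v hv hv1
      have hd0 : ∀ ω : Ω, (t : G) • ω ≠ ω := by simpa using hder 1 R.one_mem
      rcases h2 t ((t : G) * u) ((t : G) * v) hd0 (hder u (hu' u hu)) (hder v (hu' v hv)) with h | h | h
      · exact absurd h (hne u hu hu1)
      · exact absurd h (hne v hv hv1)
      obtain ⟨g, hg⟩ := isConj_iff.1 h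
      set t1 := g * (t : G) * g⁻¹ with ht1def
      set u1 := g * u * g⁻¹ with hu1def
      have hprod : t1 * u1 = (t : G) * v := by rw [← hg, ht1def, hu1def]; group
      have ht1m : t1 ∈ cj g := by rw [hmem, ht1def]; simp [mul_assoc, t.2]
      have hu1m : u1 ∈ cj (g * g₁) := by
        rw [hmem] at hu ⊢; rw [hu1def]; simpa [mul_assoc] using hu
      have hgne : cj (g * g₁) ≠ cj g := by
        intro e
        refine hg₁ (SetLike.ext fun x => ?_)
        have := SetLike.ext_iff.1 e (g * x * g⁻¹)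
        rw [hmem, hmem] at this
        rw [hmem]
        simpa [mul_assoc] using this
      have ho1 : orderOf t1 = orderOf (t : G) := ((MulAut.conj g).orderOf_eq _)
      have ho2 : orderOf u1 = orderOf u := ((MulAut.conj g).orderOf_eq _)
      have key : ∀ a ∈ T, ∀ b ∈ R, a * b = (t : G) * v → a = t ∧ b = v := by
        intro a ha b hb e
        have h1 : (t : G)⁻¹ * a = v * b⁻¹ := by
          rw [eq_mul_inv_iff_mul_eq, mul_assoc, e, inv_mul_cancel_left]
        have h3 := hTR _ (T.mul_mem (T.inv_mem t.2) ha) (h1 ▸ R.mul_mem (hu' v hv) (R.inv_mem hb))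
        rw [inv_mul_eq_one] at h3
        exact ⟨h3.symm, mul_left_cancel (h3 ▸ e)⟩
      by_cases hA : cj g = T
      · obtain ⟨-, e2⟩ := key t1 (hA ▸ ht1m) u1 (hRle _ (hA ▸ hgne) hu1m) hprod
        rw [← ho2, e2]
      · by_cases hB : cj (g * g₁) = T
        · have ht1R := hRle g hA ht1m
          have hu1T : u1 ∈ T := hB ▸ hu1m
          obtain ⟨e1, e2⟩ := key u1 hu1T t1 ht1R (by rw [← hRC t1 ht1R u1 hu1T, hprod])
          rw [← ho2, e1, ← ho1, e2]
        · exfalso
          refine ht1 (hTR _ t.2 ?_)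
          have h3 := R.mul_mem (R.mul_mem (hRle g hA ht1m) (hRle _ hB hu1m)) (R.inv_mem (hu' v hv))
          rwa [hprod, mul_inv_cancel_right] at h3
    -- so every non-identity element of `T` has the same order
    have hT1 : ∀ a : T, a ≠ 1 → g₁ * (a : G) * g₁⁻¹ ∈ cj g₁ ∧ g₁ * (a : G) * g₁⁻¹ ≠ 1 := fun a ha =>
      ⟨by rw [hmem]; simp [mul_assoc, a.2], fun e => ha (Subtype.ext (conj_eq_one_iff.1 e))⟩
    have hsol : Group.IsSolvable T := isSolvable_of_two_orders fun a b c ha hb _ => by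
      left
      have h := hord _ (hT1 a ha).1 (hT1 a ha).2 _ (hT1 b hb).1 (hT1 b hb).2
      rw [show orderOf (g₁ * (a : G) * g₁⁻¹) = orderOf (a : G) from (MulAut.conj g₁).orderOf_eq _,
        show orderOf (g₁ * (b : G) * g₁⁻¹) = orderOf (b : G) from (MulAut.conj g₁).orderOf_eq _,
        Subgroup.orderOf_coe, Subgroup.orderOf_coe] at h
      exact h
    exact not_solvable hT hTn hTmin hTnab hsol

/-- A primitive group with at most two classes of derangements which is not almost simple has a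
transitive abelian normal subgroup. -/
theorem exists_abelian_normal [IsPreprimitive G Ω] [Nontrivial Ω]
    (h2 : ∀ x y z : G, (∀ ω : Ω, x • ω ≠ ω) → (∀ ω : Ω, y • ω ≠ ω) → (∀ ω : Ω, z • ω ≠ ω) →
      IsConj x y ∨ IsConj x z ∨ IsConj y z)
    (hnas : ¬ ∃ T : Subgroup G, T.Normal ∧ IsSimpleGroup T ∧ ¬ IsMulCommutative T ∧
      Subgroup.centralizer (T : Set G) = ⊥) :
    ∃ N : Subgroup G, N.Normal ∧ N ≠ ⊥ ∧ IsMulCommutative N ∧ IsPretransitive N Ω ∧
      ∀ ω : Ω, stabilizer N ω = ⊥ := by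
  obtain ⟨α⟩ := (inferInstance : Nonempty Ω)
  haveI : Nontrivial G := by
    obtain ⟨a, b, hab⟩ := exists_pair_ne Ω
    obtain ⟨g, hg⟩ := exists_smul_eq G a b
    refine ⟨⟨g, 1, fun e => hab ?_⟩⟩
    rw [← hg, e, one_smul]
  obtain ⟨N, hNn, hN, hmin⟩ := Lib.Cores.MinNormal.exists_minimal (G := G)
  haveI hNtr := Lib.Perm.Basic.isPretransitive_of_normal_ne_bot (α := Ω) N hN
  by_cases hab : IsMulCommutative N
  · exact ⟨N, hNn, hN, hab, hNtr,
      fun ω => Lib.Perm.Basic.stabilizer_eq_bot_of_comm_transitive N hab ω⟩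
  exfalso
  have hsolv : ¬ Group.IsSolvable N := fun hs =>
    hab (Lib.Cores.MinNormal.isMulCommutative_of_solvable hN hmin)
  by_cases hC : Subgroup.centralizer (N : Set G) = ⊥
  · haveI : Nontrivial N := (Subgroup.nontrivial_iff_ne_bot N).2 hN
    obtain ⟨T₀, hT₀n, hT₀, hT₀min⟩ := Lib.Cores.MinNormal.exists_minimal (G := N)
    by_cases hT₀top : T₀ = ⊤
    · refine hnas ⟨N, hNn, ⟨fun M hM => ?_⟩, hab, hC⟩
      rcases hT₀min M hM (hT₀top.symm ▸ le_top) with h | h
      · exact Or.inl h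
      · exact Or.inr (h.trans hT₀top)
    · let T : Subgroup G := T₀.map N.subtype
      refine false_of_factors α h2 hN hmin hab (T := T) (Subgroup.map_subtype_le _) ?_
        (fun h => hT₀ ((Subgroup.map_eq_bot_iff_of_injective _ N.subtype_injective).1 h)) ?_ ?_
      · rw [Subgroup.le_normalizer_iff]
        rintro n hn _ ⟨x, hx, rfl⟩
        exact ⟨_, hT₀n.conj_mem x hx ⟨n, hn⟩, rfl⟩
      · intro h
        refine hT₀top (Subgroup.map_injective N.subtype_injective ?_)
        rw [← MonoidHom.range_eq_map, Subgroup.range_subtype]; exact h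
      · intro M hMT hMn
        have hMN : M ≤ N := hMT.trans (Subgroup.map_subtype_le _)
        haveI : (M.subgroupOf N).Normal := (Subgroup.normal_subgroupOf_iff_le_normalizer hMN).2 hMn
        have hle : M.subgroupOf N ≤ T₀ := fun x hx => by
          obtain ⟨y, hy, hyx⟩ := hMT hx
          exact (Subtype.ext hyx : y = x) ▸ hy
        have hmap : (M.subgroupOf N).map N.subtype = M := Subgroup.map_subgroupOf_eq_of_le hMN
        rcases hT₀min _ inferInstance hle with h | h
        · left; rw [← hmap, h, Subgroup.map_bot]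
        · right; rw [← hmap, h]
  · -- two regular minimal normal subgroups
    haveI hCn : (Subgroup.centralizer (N : Set G)).Normal := inferInstance
    haveI := Lib.Perm.Basic.isPretransitive_of_normal_ne_bot (α := Ω) _ hC
    have hcomm : ∀ m ∈ Subgroup.centralizer (N : Set G), ∀ n ∈ N, m * n = n * m :=
      fun m hm n hn => (Subgroup.mem_centralizer_iff.1 hm n hn).symm
    have hder : ∀ x : N, x ≠ 1 → ∀ ω : Ω, (x : G) • ω ≠ ω := fun x hx ω hω => hx (by
      have h := (Lib.Perm.Basic.regular_of_commuting_transitive _ N hcomm ω).2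
      have hm : x ∈ stabilizer N ω := hω
      rwa [h, Subgroup.mem_bot] at hm)
    refine hsolv (isSolvable_of_two_orders fun a b c ha hb hc => ?_)
    rw [← Subgroup.orderOf_coe a, ← Subgroup.orderOf_coe b, ← Subgroup.orderOf_coe c]
    rcases h2 a b c (hder a ha) (hder b hb) (hder c hc) with h | h | h
    · exact Or.inl (orderOf_eq_of_isConj h)
    · exact Or.inr (Or.inl (orderOf_eq_of_isConj h))
    · exact Or.inr (Or.inr (orderOf_eq_of_isConj h))

end Cfsg.Agent.Lib.DerangeClasses.Socle
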